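import Cfsg.Agent.Lib.Chevalley.CommCheck

/-!
Rewriting of words in root elements with parameter one in characteristic two.
-/

set_option autoImplicit false

namespace CfsgLib.Chevalley.Tbl

variable (T : Tbl)

/-- The roots of the odd terms of the commutator formula. -/
def oddTerms (r s : ℕ) : List ℕ :=
  ((T.commT r s).filter fun c => decide (c.2.1 % 2 ≠ 0)).map Prod.fst

/-- Sort the first unsorted pair, cancelling equal neighbours. -/
def swapStep : List ℕ → Option (List ℕ)
  | a :: b :: l =>
    bif Nat.beq a b then some l
    else bif Nat.ble b a then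
      bif Nat.beq a (T.neg b) then none else some (b :: a :: (T.oddTerms b a ++ l))
    else (swapStep (b :: l)).map (a :: ·)
  | _ => none

/-- Repeated sorting. -/
def collect : ℕ → List ℕ → List ℕ
  | 0, l => l
  | k + 1, l => match T.swapStep l with
    | some l' => collect k l'
    | none => l

/-- Two words have the same value. -/
def sameWord (fuel : ℕ) (u v : List ℕ) : Bool := (T.collect fuel (u ++ v.reverse)).isEmpty

/-- The relations of a map of roots to words. -/
def chkImg (S : Tbl) (f : ℕ → List ℕ) (fuel : ℕ) (r : ℕ) : Bool :=
  (f r).all (fun a => Nat.blt a T.n) && T.sameWord fuel (f r) (f r) &&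
  allLt (fun s => Nat.beq s r || Nat.beq s (S.neg r) ||
    T.sameWord fuel (f s ++ f r) (f r ++ f s ++ (S.oddTerms r s).flatMap f)) S.n

end CfsgLib.Chevalley.Tbl
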