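import Cfsg.Agent.Lib.Chevalley.Bruhat
import Cfsg.Agent.Lib.Chevalley.PosProduct
import Cfsg.Agent.Lib.Chevalley.Twist.OrbitProd

/-!
The coordinate of a positive unipotent element at a fundamental root, and conjugations keeping a
subgroup of the positive unipotent group.
-/

set_option autoImplicit false

namespace CfsgLib.Chevalley.Tbl

variable {T : Tbl} {F : Type*} [Field F] (hT : T.Valid) (hC : T.chkComm = true)

/-- `g` has coordinate `c` at the fundamental root `i`. -/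
def HasCoord (T : Tbl) (i : ℕ) (g : GL T.I F) (c : F) : Prop :=
  g * (T.xU F (T.simple i) c)⁻¹ ∈ T.rootGen F (fun s => T.half ≤ s ∧ s ≠ T.simple i)

include hT

theorem hasCoord_one {i : ℕ} (hi : i < T.rank) : T.HasCoord (F := F) i 1 0 := by
  rw [HasCoord, xU_zero hT (simple_lt hT hi), inv_one, mul_one]
  exact one_mem _

theorem hasCoord_xU {i r : ℕ} (hi : i < T.rank) (hr : r < T.n) (hp : T.half ≤ r) (t : F) :
    T.HasCoord i (T.xU F r t) (if r = T.simple i then t else 0) := by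
  rw [HasCoord]
  by_cases e : r = T.simple i
  · subst e
    rw [if_pos rfl, mul_inv_cancel]
    exact one_mem _
  · rw [if_neg e, xU_zero hT (simple_lt hT hi), inv_one, mul_one]
    exact xU_mem_rootGen (P := fun s => T.half ≤ s ∧ s ≠ T.simple i) hr ⟨hp, e⟩ t

include hC

theorem HasCoord.mul {i : ℕ} (hi : i < T.rank) {g h : GL T.I F} {c d : F} (hg : T.HasCoord i g c)
    (hh : T.HasCoord i h d) : T.HasCoord i (g * h) (c + d) := by
  rw [HasCoord] at *
  have hn := xU_mem_normalizer_simple hT hC hi (Or.inl rfl) c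
  have h1 := (Subgroup.mem_normalizer_iff.mp hn _).mp hh
  rw [← xU_add hT (simple_lt hT hi), mul_inv_rev]
  have h2 := mul_mem hg h1
  simpa [mul_assoc] using h2

theorem exists_coord {i : ℕ} (hi : i < T.rank) {g : GL T.I F}
    (hg : g ∈ T.rootGen F (fun s => T.half ≤ s)) : ∃ c, T.HasCoord i g c := by
  induction hg using Subgroup.closure_induction with
  | mem x hx =>
    obtain ⟨r, hr, hp, t, rfl⟩ := hx
    exact ⟨_, hasCoord_xU hT hi hr hp t⟩
  | one => exact ⟨0, hasCoord_one hT hi⟩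
  | mul a b _ _ iha ihb =>
    obtain ⟨c, hc⟩ := iha
    obtain ⟨d, hd⟩ := ihb
    exact ⟨c + d, hc.mul hT hC hi hd⟩
  | inv a _ iha =>
    obtain ⟨c, hc⟩ := iha
    refine ⟨-c, ?_⟩
    rw [HasCoord] at *
    have hn := xU_mem_normalizer_simple hT hC hi (Or.inl rfl) (-c)
    have h1 := (Subgroup.mem_normalizer_iff.mp hn _).mp (inv_mem hc)
    rw [← xU_inv hT (simple_lt hT hi)] at h1 ⊢
    simpa [mul_assoc] using h1

/-- A root element of a fundamental root avoids the other positive roots. -/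
theorem eq_zero_of_mem_ne_simple {i : ℕ} (hi : i < T.rank) {c : F}
    (h : T.xU F (T.simple i) c ∈ T.rootGen F (fun s => T.half ≤ s ∧ s ≠ T.simple i)) : c = 0 := by
  let i' : Fin T.rank := ⟨i, hi⟩
  have hm := mono_nU_simple (F := F) hT i'
  have h1 := conj_mem_rootGen hT hm (Q := fun s => T.half ≤ s) (fun s hs => by
    exact refP_pos hT hs.1 fun e => hs.2 (congrArg Fin.val e)) h
  obtain ⟨a, ha⟩ := hm.conj (T.simpF hT i')
  have e := (ha c).1
  rw [refP_simpF hT i'] at e
  have e' : T.nU F (T.simple i) 1 * T.xU F (T.simple i) c * (T.nU F (T.simple i) 1)⁻¹ =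
      T.xU F (T.neg (T.simple i)) ((a : F) * c) := mul_inv_eq_of_eq_mul e
  have h2 : T.xU F (T.neg (T.simple i)) ((a : F) * c) ∈ T.datum.borelSubgroup F := by
    refine Subgroup.mem_sup_left ?_
    rw [posUnipotent_rootGen hT, ← e']
    exact h1
  have h3 : T.xU F (T.neg (T.simple i)) ((a : F) * c) ∈ T.datum.negUnipotent F := by
    rw [negUnipotent_rootGen hT]
    exact xU_mem_rootGen (P := fun r => r < T.half) (neg_lt' (simple_lt hT hi))
      (negF_lt (s := T.simpF hT i') (half_le_simpF hT i')) _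
  have h4 : T.xU F (T.neg (T.simple i)) ((a : F) * c) ∈ (⊥ : Subgroup (GL T.I F)) :=
    borel_inf_neg (T := T) (F := F) hT ▸ ⟨h2, h3⟩
  rw [Subgroup.mem_bot, ← xU_zero hT (neg_lt' (simple_lt hT hi))] at h4
  exact (mul_eq_zero.mp (xU_inj hT (neg_lt' (simple_lt hT hi)) h4)).resolve_left a.ne_zero

theorem HasCoord.unique {i : ℕ} (hi : i < T.rank) {g : GL T.I F} {c d : F} (hc : T.HasCoord i g c)
    (hd : T.HasCoord i g d) : c = d := by
  rw [HasCoord] at *
  have h1 := mul_mem (inv_mem hd) hc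
  rw [mul_inv_rev, inv_inv, mul_assoc, ← mul_assoc g⁻¹, inv_mul_cancel, one_mul, xU_inv hT (simple_lt hT hi),
    xU_add hT (simple_lt hT hi), ← sub_eq_add_neg] at h1
  exact (sub_eq_zero.mp (eq_zero_of_mem_ne_simple hT hC hi h1)).symm

theorem HasCoord.conj {i : ℕ} (hi : i < T.rank) {u g : GL T.I F} {c : F}
    (hu : u ∈ T.rootGen F (fun s => T.half ≤ s)) (hg : T.HasCoord i g c) :
    T.HasCoord i (u * g * u⁻¹) c := by
  obtain ⟨a, ha⟩ := exists_coord hT hC hi hu
  obtain ⟨b, hb⟩ := exists_coord hT hC hi (inv_mem hu)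
  have h1 := ha.mul hT hC hi hb
  rw [mul_inv_cancel] at h1
  have h0 := h1.unique hT hC hi (hasCoord_one hT hi)
  have h2 := (ha.mul hT hC hi hg).mul hT hC hi hb
  rwa [show a + c + b = c by linear_combination h0] at h2

omit hC in
theorem HasCoord.conj_dU {i : ℕ} (hi : i < T.rank) {χ : ℕ → Fˣ} (hχ : T.IsChar χ) {g : GL T.I F}
    {c : F} (hg : T.HasCoord i g c) :
    T.HasCoord i (T.dU χ * g * (T.dU χ)⁻¹) ((χ (T.simple i) : F) * c) := by
  rw [HasCoord] at *
  have h1 := (Subgroup.mem_normalizer_iff.mp (dU_mem_normalizer hT hχ _) _).mp hg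
  have e : T.xU F (T.simple i) ((χ (T.simple i) : F) * c) =
      T.dU χ * T.xU F (T.simple i) c * (T.dU χ)⁻¹ := by
    rw [dU_conj_X hT hχ (simple_lt hT hi), mul_inv_cancel_right]
  rw [e]
  simpa [mul_assoc] using h1

/-- An element of the group, times a diagonal element, which keeps a unipotent subgroup with
coordinates 0 and 1 and not vanishing at any fundamental root, has the diagonal element inside. -/
theorem diag_of_keep {U : Subgroup (GL T.I F)} (hU : U ≤ T.rootGen F (fun s => T.half ≤ s))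
    (h01 : ∀ i < T.rank, ∀ v ∈ U, ∀ c, T.HasCoord i v c → c = 0 ∨ c = 1)
    (hw : ∀ i < T.rank, ∃ v ∈ U, T.HasCoord i v 1) {g : GL T.I F} (hg : g ∈ T.datum.group F)
    {χ : ℕ → Fˣ} (hχ : T.IsChar χ)
    (hkeep : ∀ v ∈ U, g * T.dU χ * v * (g * T.dU χ)⁻¹ ∈ U) :
    T.dU χ ∈ T.datum.diagonalSubgroup F := by
  obtain ⟨b, hb, n, hn, w, hwP, hm, u, hu, rfl⟩ := exists_canonical hT hC hg
  have hw1 : w = 1 := by
    refine eq_one_of_pos hT hwP fun i => ?_
    by_contra hlt
    obtain ⟨v, hv, hv1⟩ := hw i.val i.2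
    set u' : GL T.I F := (T.dU χ)⁻¹ * u * T.dU χ with hu'
    have huU : u ∈ T.rootGen F (fun s => T.half ≤ s) := rootGen_mono (fun s _ ⟨_, h, _⟩ => h) hu
    have hu'U : u' ∈ T.rootGen F (fun s => T.half ≤ s) := by
      have := (Subgroup.mem_normalizer_iff.mp (inv_mem (dU_mem_normalizer hT hχ _)) u).mp huU
      rwa [inv_inv] at this
    set z' : GL T.I F := T.dU χ * (u' * v * u'⁻¹) * (T.dU χ)⁻¹ with hz'
    have hz'U : z' ∈ T.rootGen F (fun s => T.half ≤ s) :=
      (Subgroup.mem_normalizer_iff.mp (dU_mem_normalizer hT hχ _) _).mp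
        (mul_mem (mul_mem hu'U (hU hv)) (inv_mem hu'U))
    have hc := (hv1.conj hT hC i.2 hu'U).conj_dU hT i.2 hχ
    have hB : n * z' * n⁻¹ ∈ T.datum.borelSubgroup F := by
      have e : n * z' * n⁻¹ = b⁻¹ * (b * n * u * T.dU χ * v * (b * n * u * T.dU χ)⁻¹) * b := by
        rw [hz', hu']; group
      rw [e]
      have h1 : b * n * u * T.dU χ * v * (b * n * u * T.dU χ)⁻¹ ∈ T.datum.borelSubgroup F := by
        refine Subgroup.mem_sup_left ?_
        rw [posUnipotent_rootGen hT]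
        exact hU (hkeep v hv)
      exact mul_mem (mul_mem (inv_mem hb) h1) hb
    obtain ⟨p, hp, q, hq, hpq⟩ := exists_factor hT hC (T.posSet w) (T.negSet w) (fun r hr hrp => by
      rcases Nat.lt_or_ge (w ⟨r, hr⟩).val T.half with h | h
      · exact Or.inr ⟨hr, hrp, h⟩
      · exact Or.inl ⟨hr, hrp, h⟩) T.half T.half (Nat.two_mul _).symm le_rfl _ hz'U
    have hnp : n * p * n⁻¹ ∈ T.datum.borelSubgroup F := by
      refine Subgroup.mem_sup_left ?_
      rw [posUnipotent_rootGen hT]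
      exact conj_mem_rootGen hT hm (fun s ⟨_, _, h⟩ => h) hp
    have hq1 : n * q * n⁻¹ ∈ (⊥ : Subgroup (GL T.I F)) := by
      rw [← borel_inf_neg (T := T) (F := F) hT]
      refine Subgroup.mem_inf.mpr ⟨?_, ?_⟩
      · have e : n * q * n⁻¹ = (n * p * n⁻¹)⁻¹ * (n * z' * n⁻¹) := by rw [hpq]; group
        rw [e]
        exact mul_mem (inv_mem hnp) hB
      · rw [negUnipotent_rootGen hT]
        exact conj_mem_rootGen hT hm (fun s ⟨_, _, h⟩ => h) hq
    rw [Subgroup.mem_bot, conj_eq_one_iff] at hq1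
    rw [hq1, mul_one] at hpq
    have hz0 : T.HasCoord i.val z' 0 := by
      rw [HasCoord, xU_zero hT (simple_lt hT i.2), inv_one, mul_one, hpq]
      refine rootGen_mono (fun s hs ⟨_, hsp, hsw⟩ => ⟨hsp, fun e => hlt ?_⟩) hp
      rwa [show (⟨s, hs⟩ : Fin T.n) = T.simpF hT i from Fin.ext e] at hsw
    have h0 := hc.unique hT hC i.2 hz0
    rw [mul_one] at h0
    exact (χ (T.simple i.val)).ne_zero h0
  subst hw1
  have hnd := mem_diag_of_mono_one hT hn hm
  have hgB : b * n * u ∈ T.datum.borelSubgroup F := by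
    refine mul_mem (mul_mem hb (Subgroup.mem_sup_right hnd)) (Subgroup.mem_sup_left ?_)
    rw [posUnipotent_rootGen hT]
    exact rootGen_mono (fun s _ ⟨_, h, _⟩ => h) hu
  obtain ⟨v0, hv0, h, hh, e⟩ := (mem_borel_iff hT).mp hgB
  rw [posUnipotent_rootGen hT] at hv0
  obtain ⟨ψ, hψ, rfl⟩ := diag_exists_char hT hh
  have hχ' : T.IsChar (ψ * χ) :=
    ⟨fun r hr => by simp only [Pi.mul_apply, hψ.neg r hr, hχ.neg r hr, mul_inv],
     fun r hr s hs x N hx => by
      simp only [Pi.mul_apply, hψ.add r hr s hs x N hx, hχ.add r hr s hs x N hx]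
      exact mul_mul_mul_comm _ _ _ _⟩
  have hone : (T.dU (ψ * χ) : GL T.I F) = 1 := by
    refine dU_eq_one_of_simple hT hχ' fun i hi => ?_
    obtain ⟨v, hv, hv1⟩ := hw i hi
    have hc := ((hv1.conj_dU hT hi hχ').conj hT hC hi hv0)
    rw [mul_one] at hc
    have e2 : b * n * u * T.dU χ * v * (b * n * u * T.dU χ)⁻¹ =
        v0 * (T.dU (ψ * χ) * v * (T.dU (ψ * χ))⁻¹) * v0⁻¹ := by
      rw [e, ← dU_mul]; group
    have hk := hkeep v hv
    rw [e2] at hk
    rcases h01 i hi _ hk _ hc with h | h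
    · exact absurd h (((ψ * χ) (T.simple i)).ne_zero)
    · exact Units.ext h
  rw [← dU_mul, mul_eq_one_iff_eq_inv] at hone
  rw [eq_inv_iff_mul_eq_one, mul_eq_one_iff_inv_eq] at hone
  rw [← hone]
  exact inv_mem hh

end CfsgLib.Chevalley.Tbl
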