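import Cfsg.Agent.Lib.Chevalley.F4InE6.Check
import Cfsg.Agent.Lib.Chevalley.Data.E6
import Cfsg.Agent.Lib.Chevalley.Data.F4

/-!
The roots of type E6 over each root of type F4.
-/

set_option autoImplicit false
set_option maxRecDepth 100000
set_option Elab.async false

namespace CfsgLib.Chevalley.F4InE6

/-- The orbit of roots of type E6 lying over a root of type F4. -/
def imgL : List (List ℕ) :=
  [[0], [1], [2], [3, 5], [6], [8], [11], [4, 16], [7, 17], [9, 19], [12, 26], [10, 22], [13, 30], [14, 33],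
    [15, 35], [18], [20], [27], [21, 23], [28, 31], [29, 34], [24], [32], [25], [46], [39], [47], [37, 42],
    [40, 43], [48, 50], [44], [51], [53], [36, 56], [38, 57], [41, 58], [49, 61], [45, 59], [52, 62], [54, 64],
    [55, 67], [60], [63], [65], [66, 68], [69], [70], [71]]

/-- The orbit of one root. -/
def img (r : ℕ) : List ℕ := imgL.getD r []

theorem chk0 : allLt (fun r => !(Nat.ble r 11) || Data.E6.tbl.chkImg Data.F4.tbl img 200 r) 48 = true := by
  decide +kernel

theorem chk1 : allLt (fun r => !(Nat.ble 12 r && Nat.ble r 23) || Data.E6.tbl.chkImg Data.F4.tbl img 200 r) 48 =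
    true := by decide +kernel

theorem chk2 : allLt (fun r => !(Nat.ble 24 r && Nat.ble r 35) || Data.E6.tbl.chkImg Data.F4.tbl img 200 r) 48 =
    true := by decide +kernel

theorem chk3 : allLt (fun r => !(Nat.ble 36 r) || Data.E6.tbl.chkImg Data.F4.tbl img 200 r) 48 = true := by
  decide +kernel

theorem chk {r : ℕ} (hr : r < 48) : Data.E6.tbl.chkImg Data.F4.tbl img 200 r = true := by
  have key : ∀ {b c : Bool}, b = true → (!b || c) = true → c = true := by decide
  by_cases a : r ≤ 11
  · exact key (Nat.ble_eq_true_of_le a) (allLt_iff.mp chk0 r hr)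
  by_cases b : r ≤ 23
  · exact key (Bool.and_eq_true _ _ ▸ ⟨Nat.ble_eq_true_of_le (by omega), Nat.ble_eq_true_of_le b⟩)
      (allLt_iff.mp chk1 r hr)
  by_cases c : r ≤ 35
  · exact key (Bool.and_eq_true _ _ ▸ ⟨Nat.ble_eq_true_of_le (by omega), Nat.ble_eq_true_of_le c⟩)
      (allLt_iff.mp chk2 r hr)
  exact key (Nat.ble_eq_true_of_le (by omega)) (allLt_iff.mp chk3 r hr)

end CfsgLib.Chevalley.F4InE6
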