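import Cfsg.Agent.Lib.Chevalley.F4InE6.Check
import Cfsg.Agent.Lib.Chevalley.RootGen

/-!
Words in root elements with parameter one in characteristic two.
-/

set_option autoImplicit false

namespace CfsgLib.Chevalley.Tbl

variable {T : Tbl} {F : Type*} [Field F]

/-- The value of a word. -/
noncomputable def oneProd (T : Tbl) (F : Type*) [Field F] (l : List ℕ) : GL T.I F :=
  (l.map fun a => T.xU F a 1).prod

@[simp] theorem oneProd_nil : T.oneProd F [] = 1 := rfl

@[simp] theorem oneProd_cons (a : ℕ) (l : List ℕ) :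
    T.oneProd F (a :: l) = T.xU F a 1 * T.oneProd F l := List.prod_cons

theorem oneProd_append (u v : List ℕ) : T.oneProd F (u ++ v) = T.oneProd F u * T.oneProd F v := by
  simp [oneProd]

theorem int_cast_char_two (h2 : (2 : F) = 0) (z : ℤ) : (z : F) = if z % 2 = 0 then 0 else 1 := by
  conv_lhs => rw [← Int.mul_ediv_add_emod z 2]
  push_cast
  rw [h2, zero_mul, zero_add]
  rcases Int.emod_two_eq_zero_or_one z with h | h <;> simp [h]

variable (hT : T.Valid) (hC : T.chkComm = true) (h2 : (2 : F) = 0)

include hT h2 in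
theorem xU_sq {a : ℕ} (ha : a < T.n) : T.xU F a 1 * T.xU F a 1 = 1 := by
  rw [xU_add hT ha, one_add_one_eq_two, h2, xU_zero hT ha]

include hT h2 in
theorem oneProd_reverse : ∀ l : List ℕ, (∀ a ∈ l, a < T.n) →
    T.oneProd F l.reverse = (T.oneProd F l)⁻¹
  | [], _ => by simp
  | a :: l, h => by
    rw [List.reverse_cons, oneProd_append, oneProd_reverse l fun b hb => h b (List.mem_cons_of_mem _ hb),
      oneProd_cons, oneProd_cons, oneProd_nil, mul_one, mul_inv_rev]
    exact congrArg _ (inv_eq_of_mul_eq_one_right (xU_sq hT h2 (h a List.mem_cons_self))).symm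

include h2 in
theorem neg_one_eq_one' : (-1 : F) = 1 := by linear_combination -h2

include hT h2 in
theorem oddTerms_spec {r s : ℕ} (hr : r < T.n) (hs : s < T.n) :
    (∀ c ∈ T.oddTerms r s, c < T.n) ∧
      ((T.commT r s).map fun c => T.xU F c.1 ((c.2.1 : F) * (-1) ^ c.2.2.1 * 1 ^ c.2.2.2)).prod =
        T.oneProd F (T.oddTerms r s) := by
  refine ⟨fun c hc => ?_, ?_⟩
  · obtain ⟨d, hd, rfl⟩ := List.mem_map.mp hc
    exact commT_lt hT hr hs d (List.mem_filter.mp hd).1
  have key : ∀ l : List (ℕ × ℤ × ℕ × ℕ), (∀ c ∈ l, c.1 < T.n) →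
      (l.map fun c => T.xU F c.1 ((c.2.1 : F) * (-1) ^ c.2.2.1 * 1 ^ c.2.2.2)).prod =
        T.oneProd F ((l.filter fun c => decide (c.2.1 % 2 ≠ 0)).map Prod.fst) := by
    intro l hl
    induction l with
    | nil => rfl
    | cons c l ih =>
      have hc : c.1 < T.n := hl c List.mem_cons_self
      rw [List.map_cons, List.prod_cons, ih fun d hd => hl d (List.mem_cons_of_mem _ hd), neg_one_eq_one' h2,
        one_pow, mul_one, one_pow, mul_one, int_cast_char_two h2]
      by_cases he : c.2.1 % 2 = 0
      · rw [List.filter_cons_of_neg (by simp [he]), if_pos he, xU_zero hT hc, one_mul]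
      · rw [List.filter_cons_of_pos (by simp [he]), List.map_cons, oneProd_cons, if_neg he]
  exact key _ fun c hc => commT_lt hT hr hs c hc

include hT hC h2

theorem swapStep_spec : ∀ l l', T.swapStep l = some l' → (∀ a ∈ l, a < T.n) →
    (∀ a ∈ l', a < T.n) ∧ T.oneProd F l' = T.oneProd F l
  | [], l', h, _ => by simp [swapStep] at h
  | [a], l', h, _ => by simp [swapStep] at h
  | a :: b :: l, l', h, hl => by
    have ha : a < T.n := hl a List.mem_cons_self
    have hb : b < T.n := hl b (List.mem_cons_of_mem _ List.mem_cons_self)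
    have hl0 : ∀ c ∈ l, c < T.n := fun c hc => hl c (List.mem_cons_of_mem _ (List.mem_cons_of_mem _ hc))
    simp only [swapStep] at h
    by_cases e : a = b
    · subst e
      simp only [Nat.beq_refl, cond_true, Option.some.injEq] at h
      subst h
      refine ⟨hl0, ?_⟩
      rw [oneProd_cons, oneProd_cons, ← mul_assoc, xU_sq hT h2 ha, one_mul]
    have e1 : Nat.beq a b = false := Bool.eq_false_iff.mpr fun h0 => e (Nat.eq_of_beq_eq_true h0)
    rw [e1, cond_false] at h
    by_cases hle : b ≤ a
    · rw [Nat.ble_eq_true_of_le hle, cond_true] at h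
      by_cases en : a = T.neg b
      · subst en
        simp at h
      · have e2 : Nat.beq a (T.neg b) = false := Bool.eq_false_iff.mpr fun h0 => en (Nat.eq_of_beq_eq_true h0)
        rw [e2, cond_false, Option.some.injEq] at h
        subst h
        obtain ⟨hodd, hval⟩ := oddTerms_spec (F := F) hT h2 hb ha
        refine ⟨fun c hc => ?_, ?_⟩
        · simp only [List.mem_cons, List.mem_append] at hc
          rcases hc with rfl | rfl | hc | hc
          exacts [hb, ha, hodd _ hc, hl0 _ hc]
        · rw [oneProd_cons, oneProd_cons, oneProd_append, ← hval, oneProd_cons, oneProd_cons,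
            ← mul_assoc, ← mul_assoc, ← comm_xU hT hC hb ha e en (1 : F) 1, mul_assoc]
    · rw [show Nat.ble b a = false from Bool.eq_false_iff.mpr fun h0 => hle (Nat.le_of_ble_eq_true h0), cond_false, Option.map_eq_some_iff] at h
      obtain ⟨m, hm, rfl⟩ := h
      obtain ⟨h1, h3⟩ := swapStep_spec (b :: l) m hm fun c hc => hl c (List.mem_cons_of_mem _ hc)
      refine ⟨fun c hc => ?_, by rw [oneProd_cons, h3, ← oneProd_cons]⟩
      rcases List.mem_cons.mp hc with rfl | hc
      exacts [ha, h1 c hc]

theorem collect_spec : ∀ k l, (∀ a ∈ l, a < T.n) →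
    T.oneProd F (T.collect k l) = T.oneProd F l
  | 0, l, _ => rfl
  | k + 1, l, hl => by
    simp only [collect]
    cases h : T.swapStep l with
    | none => rfl
    | some l' =>
      obtain ⟨h1, h3⟩ := swapStep_spec hT hC h2 l l' h hl
      rw [collect_spec k l' h1, h3]

theorem sameWord_spec {k : ℕ} {u v : List ℕ} (h : T.sameWord k u v = true) (hu : ∀ a ∈ u, a < T.n)
    (hv : ∀ a ∈ v, a < T.n) : T.oneProd F u = T.oneProd F v := by
  have h1 := collect_spec (F := F) hT hC h2 k (u ++ v.reverse) fun a ha => by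
    rcases List.mem_append.mp ha with ha | ha
    exacts [hu a ha, hv a (List.mem_reverse.mp ha)]
  rw [List.isEmpty_iff.mp h, oneProd_nil, oneProd_append, oneProd_reverse hT h2 v hv] at h1
  exact mul_inv_eq_one.mp h1.symm

end CfsgLib.Chevalley.Tbl
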