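import Cfsg.Agent.Lib.Chevalley.F4InE6.Data
import Cfsg.Agent.Lib.Chevalley.F4InE6.Sound
import Cfsg.Agent.Lib.Chevalley.SteinbergKernel
import Cfsg.Agent.Lib.Chevalley.Perfect
import Cfsg.Agent.Lib.Chevalley.Data.StCerts
import Cfsg.Agent.Lib.Chevalley.Data.F4Comm
import Cfsg.Agent.Lib.Chevalley.Data.E6Comm
import Cfsg.Agent.Lib.Chevalley.Data.Certs

/-!
The embedding of F₄(2) into the group of type E₆ over a field of characteristic two.
-/

set_option autoImplicit false
set_option maxRecDepth 20000

namespace CfsgLib.Chevalley.F4InE6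

open Tbl

local notation "T4" => Data.F4.tbl
local notation "T6" => Data.E6.tbl

theorem stOk4 : (T4).StOk :=
  ⟨Data.F4.valid, Data.F4.chkComm, Data.F4.chkSorted, Data.F4.chkSplit⟩

theorem sDiag_two : (T4).sDiag (ZMod 2) = ⊥ := by
  rw [eq_bot_iff, sDiag, Subgroup.closure_le]
  rintro _ ⟨i, hi, t, ht, rfl⟩
  obtain rfl : t = 1 := by
    revert ht
    revert t
    decide
  have h := sH_mul (T := T4) (F := ZMod 2) stOk4.valid (simple_lt stOk4.valid hi) one_ne_zero one_ne_zero
  rw [one_mul, mul_eq_left] at h
  exact Subgroup.mem_bot.mpr h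

/-- The Steinberg group over the field with two elements is the Chevalley group. -/
noncomputable def stEquiv :
    (T4).datum.SteinbergGroup (ZMod 2) ≃* ↥((T4).datum.group (ZMod 2)) :=
  MulEquiv.ofBijective (stProj stOk4) ⟨by
    rw [← MonoidHom.ker_eq_bot_iff, eq_bot_iff]
    intro k hk
    have h1 : stOk4.hom (ZMod 2) k = 1 := congrArg Subtype.val hk
    exact sDiag_two ▸ ker_le_sDiag stOk4 (MonoidHom.mem_ker.mpr h1), stProj_surjective stOk4⟩

variable {K : Type*} [Field K] (h2 : (2 : K) = 0)

/-- The image of a root element. -/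
noncomputable def word (K : Type*) [Field K] (r : ℕ) (t : ZMod 2) : GL (T6).I K :=
  if t = 0 then 1 else (T6).oneProd K (img r)

theorem img_lt {r : ℕ} (hr : r < 48) : ∀ a ∈ img r, a < (T6).n := by
  intro a ha
  have h := chk hr
  simp only [chkImg, Bool.and_eq_true, List.all_eq_true] at h
  exact Nat.le_of_ble_eq_true (h.1.1 a ha)

include h2

theorem word_sq {r : ℕ} (hr : r < 48) : (T6).oneProd K (img r) * (T6).oneProd K (img r) = 1 := by
  have h' := oneProd_reverse (F := K) Data.E6.valid h2 (img r) (img_lt hr)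
  have hrev : ∀ r < 48, (img r).reverse = img r ∨ ∃ a b, img r = [a, b] ∧ (T6).oddTerms a b = [] ∧
      (T6).oddTerms b a = [] ∧ a ≠ b ∧ a ≠ (T6).neg b := by
    intro r hr
    have key : allLt (fun r => decide ((img r).reverse = img r) ||
        match img r with
        | [a, b] => decide ((T6).oddTerms a b = []) && decide ((T6).oddTerms b a = []) && decide (a ≠ b) &&
            decide (a ≠ (T6).neg b)
        | _ => false) 48 = true := by decide +kernel
    have h1 := allLt_iff.mp key r hr
    simp only [Bool.or_eq_true, decide_eq_true_eq] at h1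
    rcases h1 with h1 | h1
    · exact Or.inl h1
    · split at h1
      · rename_i a b e
        simp only [Bool.and_eq_true, decide_eq_true_eq] at h1
        exact Or.inr ⟨a, b, e, h1.1.1.1, h1.1.1.2, h1.1.2, h1.2⟩
      · simp at h1
  rcases hrev r hr with e3 | ⟨a, b, e3, -, hba, hab, hn⟩
  · rw [e3] at h'
    nth_rewrite 2 [h']
    exact mul_inv_cancel _
  · have ha : a < (T6).n := img_lt hr a (by simp [e3])
    have hb : b < (T6).n := img_lt hr b (by simp [e3])
    have hc : (T6).xU K a 1 * (T6).xU K b 1 = (T6).xU K b 1 * (T6).xU K a 1 := by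
      rw [comm_xU Data.E6.valid Data.E6.chkComm hb ha hab hn (1 : K) 1,
        (oddTerms_spec (F := K) Data.E6.valid h2 hb ha).2, hba, oneProd_nil, mul_one]
    rw [e3, oneProd_cons, oneProd_cons, oneProd_nil, mul_one]
    calc (T6).xU K a 1 * (T6).xU K b 1 * ((T6).xU K a 1 * (T6).xU K b 1)
        = (T6).xU K a 1 * (T6).xU K b 1 * ((T6).xU K b 1 * (T6).xU K a 1) := by rw [hc]
      _ = _ := by
        rw [mul_assoc, ← mul_assoc ((T6).xU K b 1), xU_sq Data.E6.valid h2 hb, one_mul,
          xU_sq Data.E6.valid h2 ha]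

theorem word_add {r : ℕ} (hr : r < 48) (s t : ZMod 2) : word K r s * word K r t = word K r (s + t) := by
  have key : ∀ s t : ZMod 2, (s = 0 ∨ (s = 1 ∧ t = 0) ∨ (s = 1 ∧ t = 1)) := by decide
  rcases key s t with rfl | ⟨rfl, rfl⟩ | ⟨rfl, rfl⟩
  · simp [word]
  · simp [word]
  · rw [show (1 : ZMod 2) + 1 = 0 by decide]
    simp only [word, if_neg (one_ne_zero : (1 : ZMod 2) ≠ 0), if_true]
    exact word_sq h2 hr

theorem word_map (r : ℕ) (hr : r < 48) (s : ℕ) (hs : s < 48) (hsr : s ≠ r) (hn : s ≠ (T4).neg r) :
    (T6).oneProd K (img s) * (T6).oneProd K (img r) = (T6).oneProd K (img r) * (T6).oneProd K (img s) *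
      (((T4).oddTerms r s).map fun c => (T6).oneProd K (img c)).prod := by
  have h := chk hr
  simp only [chkImg, Bool.and_eq_true, allLt_iff, Bool.or_eq_true] at h
  have h' := h.2 s hs
  rcases h' with (h' | h') | h'
  · exact absurd (Nat.eq_of_beq_eq_true h') hsr
  · exact absurd (Nat.eq_of_beq_eq_true h') hn
  have hodd : ∀ c ∈ (T4).oddTerms r s, c < 48 := fun c hc => by
    obtain ⟨d, hd, rfl⟩ := List.mem_map.mp hc
    exact commT_lt stOk4.valid hr hs d (List.mem_filter.mp hd).1
  have hl : ∀ a ∈ ((T4).oddTerms r s).flatMap img, a < (T6).n := fun a ha => by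
    obtain ⟨c, hc, ha⟩ := List.mem_flatMap.mp ha
    exact img_lt (hodd c hc) a ha
  have e := sameWord_spec (F := K) Data.E6.valid Data.E6.chkComm h2 h'
    (fun a ha => by
      rcases List.mem_append.mp ha with ha | ha
      exacts [img_lt hs a ha, img_lt hr a ha])
    (fun a ha => by
      rcases List.mem_append.mp ha with ha | ha
      · rcases List.mem_append.mp ha with ha | ha
        exacts [img_lt hr a ha, img_lt hs a ha]
      · exact hl a ha)
  rw [oneProd_append, oneProd_append, oneProd_append] at e
  rw [e]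
  congr 1
  induction (T4).oddTerms r s with
  | nil => rfl
  | cons c l ih => rw [List.flatMap_cons, oneProd_append, ih, List.map_cons, List.prod_cons]

omit h2 in
theorem word_terms (r s : ℕ) :
    (((T4).commT r s).map fun c => word K c.1 ((c.2.1 : ZMod 2) * (-1) ^ c.2.2.1 * 1 ^ c.2.2.2)).prod =
      (((T4).oddTerms r s).map fun c => (T6).oneProd K (img c)).prod := by
  unfold oddTerms
  induction (T4).commT r s with
  | nil => rfl
  | cons c l ih =>
    rw [List.map_cons, List.prod_cons, ih, neg_one_eq_one' (F := ZMod 2) (by decide), one_pow, mul_one, one_pow,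
      mul_one, int_cast_char_two (F := ZMod 2) (by decide)]
    by_cases he : c.2.1 % 2 = 0
    · rw [List.filter_cons_of_neg (by simp [he]), if_pos he, word, if_pos rfl, one_mul]
    · rw [List.filter_cons_of_pos (by simp [he]), List.map_cons, List.map_cons, List.prod_cons, if_neg he, word,
        if_neg one_ne_zero]

/-- The map from the Steinberg group of type F4. -/
noncomputable def stMap : (T4).datum.SteinbergGroup (ZMod 2) →* GL (T6).I K :=
  PresentedGroup.toGroup (f := fun p : Fin (T4).datum.nroots × ZMod 2 => word K p.1.val p.2) (by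
    have hX : ∀ r < (T4).n, ∀ t : ZMod 2,
        FreeGroup.lift (fun p : Fin (T4).datum.nroots × ZMod 2 => word K p.1.val p.2) ((T4).datum.stX r t) =
          word K r t := by
      intro r hr t
      rw [Cfsg.Lie.ChevalleyDatum.stX, dif_pos hr, FreeGroup.lift_apply_of]
    have hW : ∀ w : List (ℕ × ZMod 2), (∀ p ∈ w, p.1 < (T4).n) →
        FreeGroup.lift (fun p : Fin (T4).datum.nroots × ZMod 2 => word K p.1.val p.2) ((T4).datum.stWord w) =
          (w.map fun p => word K p.1 p.2).prod := by
      intro w hw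
      rw [Cfsg.Lie.ChevalleyDatum.stWord, map_list_prod, List.map_map]
      exact congrArg List.prod (List.map_congr_left fun p hp => hX p.1 (hw p hp) p.2)
    rintro g ((⟨r, t₁, t₂, hr, rfl⟩ | ⟨r, s, t, u, hr, hs, hrs, hneg, rfl⟩) |
      ⟨r, t₁, t₂, hr, h₁, h₂, rfl⟩)
    · have hr' : r < (T4).n := hr
      simp only [map_mul, map_inv, hX r hr', word_add h2 hr', mul_inv_cancel]
    · have hr' : r < (T4).n := hr
      have hs' : s < (T4).n := hs
      rw [datum_neg hr'] at hneg
      simp only [map_mul, map_inv, hX r hr', hX s hs']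
      rw [hW _ (by
        intro p hp
        simp only [Cfsg.Lie.ChevalleyDatum.commWord, datum_commTerms stOk4.valid hr' hs', List.mem_map] at hp
        obtain ⟨c, hc, rfl⟩ := hp
        exact commT_lt stOk4.valid hr' hs' c hc)]
      simp only [Cfsg.Lie.ChevalleyDatum.commWord, datum_commTerms stOk4.valid hr' hs', List.map_map,
        Function.comp_def]
      have hzero : t = 0 ∨ u = 0 → (((T4).commT r s).map fun c =>
          word K c.1 ((c.2.1 : ZMod 2) * (-t) ^ c.2.2.1 * u ^ c.2.2.2)).prod = 1 := by
        intro h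
        refine List.prod_eq_one fun x hx => ?_
        obtain ⟨c, hc, rfl⟩ := List.mem_map.mp hx
        obtain ⟨hi, hj, -⟩ := commT_co stOk4.valid hr' hs' c hc
        rw [word, if_pos]
        rcases h with rfl | rfl
        · rw [neg_zero, zero_pow (by omega), mul_zero, zero_mul]
        · rw [zero_pow (by omega), mul_zero]
      have key : ∀ x : ZMod 2, x = 0 ∨ x = 1 := by decide
      rcases key t with rfl | rfl
      · rw [hzero (Or.inl rfl)]; rcases key u with rfl | rfl <;> simp [word]
      · rcases key u with rfl | rfl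
        · rw [hzero (Or.inr rfl)]; simp [word]
        · rw [word_terms, word, word, if_neg one_ne_zero, if_neg one_ne_zero,
            mul_assoc _ ((T6).oneProd K (img s)) ((T6).oneProd K (img r)),
            word_map h2 r hr' s hs' hrs hneg]
          group
    · have hr' : r < (T4).n := hr
      have key : ∀ x : ZMod 2, x ≠ 0 → x = 1 := by decide
      obtain rfl := key t₁ h₁
      obtain rfl := key t₂ h₂
      have hh : FreeGroup.lift (fun p : Fin (T4).datum.nroots × ZMod 2 => word K p.1.val p.2)
          ((T4).datum.stH r 1) = 1 := by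
        have hn := neg_lt' hr'
        rw [Cfsg.Lie.ChevalleyDatum.stH, hW]
        · simp only [Cfsg.Lie.ChevalleyDatum.hWord, Cfsg.Lie.ChevalleyDatum.nWord, datum_neg hr',
            List.cons_append, List.nil_append, List.map_cons, List.map_nil, List.prod_cons, List.prod_nil,
            mul_one, inv_one, show (-1 : ZMod 2) = 1 by decide]
          simp only [word, if_neg (one_ne_zero : (1 : ZMod 2) ≠ 0), ← mul_assoc]
          rw [mul_assoc _ ((T6).oneProd K (img r)) ((T6).oneProd K (img r)), word_sq h2 hr', mul_one,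
            mul_assoc _ ((T6).oneProd K (img ((T4).neg r))) ((T6).oneProd K (img ((T4).neg r))),
            word_sq h2 hn, mul_one, word_sq h2 hr']
        · intro p hp
          have := neg_lt' hr'
          simp [Cfsg.Lie.ChevalleyDatum.hWord, Cfsg.Lie.ChevalleyDatum.nWord, datum_neg hr'] at hp
          rcases hp with rfl | rfl | rfl | rfl | rfl | rfl <;> assumption
      simp only [mul_one, map_mul, map_inv, hh, inv_one])

/-- The embedding of the Chevalley group. -/
noncomputable def emb : ↥((T4).datum.group (ZMod 2)) →* GL (T6).I K :=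
  (stMap h2).comp stEquiv.symm.toMonoidHom

theorem emb_xU {r : ℕ} (hr : r < 48) (t : ZMod 2)
    (h : (T4).xU (ZMod 2) r t ∈ (T4).datum.group (ZMod 2)) : emb h2 ⟨_, h⟩ = word K r t := by
  have e : stEquiv ((T4).sX (ZMod 2) r t) = ⟨_, h⟩ := Subtype.ext (hom_sX stOk4 hr t)
  rw [emb, MonoidHom.comp_apply, MulEquiv.toMonoidHom_eq_coe, MonoidHom.coe_coe, ← e,
    MulEquiv.symm_apply_apply]
  show stMap h2 _ = _
  rw [stMap, sX, Cfsg.Lie.ChevalleyDatum.stGen, Cfsg.Lie.ChevalleyDatum.stX, dif_pos (show r < (T4).datum.nroots from hr)]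
  exact PresentedGroup.toGroup.of _

theorem emb_injective : Function.Injective (emb (K := K) h2) := by
  have hS := (simple_group (F := ZMod 2) stOk4.valid stOk4.comm (torus := false) (fun h => Bool.noConfusion h)
    Data.F4.chkPerfect Data.F4.chkConn).1
  rw [← MonoidHom.ker_eq_bot_iff]
  rcases (MonoidHom.normal_ker (emb (K := K) h2)).eq_bot_or_eq_top with h | h
  · exact h
  · exfalso
    have hg := xU_mem_group (F := ZMod 2) stOk4.valid (show 24 < (T4).n by decide) (1 : ZMod 2)
    have h1 : emb (K := K) h2 ⟨_, hg⟩ = 1 := MonoidHom.mem_ker.mp (h ▸ Subgroup.mem_top _)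
    rw [emb_xU h2 (by norm_num), word, if_neg one_ne_zero, show img 24 = [46] from rfl, oneProd_cons, oneProd_nil,
      mul_one, ← xU_zero Data.E6.valid (F := K) (show 46 < (T6).n by decide)] at h1
    exact one_ne_zero (xU_inj Data.E6.valid (show 46 < (T6).n by decide) h1)

end CfsgLib.Chevalley.F4InE6
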