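import Cfsg.Agent.Lib.Chevalley.F4InE6.Emb
import Cfsg.Agent.Lib.Chevalley.F4InE6.Coord
import Cfsg.Agent.Lib.Chevalley.Orders
import Cfsg.Agent.Lib.Chevalley.Data.Steps
import Cfsg.Agent.Lib.Chevalley.Data.SmithCerts
import Cfsg.Prelude.Def_LieTwisted
import Mathlib.GroupTheory.Sylow

/-!
Three classes of subgroups of type F₄(2) in ²E₆(2).
-/

set_option autoImplicit false
set_option maxRecDepth 20000

namespace CfsgLib.Chevalley.F4InE6

open Tbl
open scoped Pointwise

local notation "T4" => Data.F4.tbl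
local notation "T6" => Data.E6.tbl

/-- A conjugation keeping the image of a group keeps, after a correction, a given Sylow image. -/
theorem exists_fix {A X : Type*} [Group A] [Group X] [Finite A] {p : ℕ} [Fact p.Prime] (ψ : A →* X)
    (hψ : Function.Injective ψ) (U : Subgroup A) (hU : Nat.card U = p ^ (Nat.card A).factorization p)
    {x : X} (hx : ∀ a, ∃ b, x * ψ a * x⁻¹ = ψ b) :
    ∃ c : A, ∀ v ∈ U, ∃ w ∈ U, ψ c * x * ψ v * (ψ c * x)⁻¹ = ψ w := by
  choose α hα using hx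
  let αh : A →* A := MonoidHom.mk' α fun a b => hψ (by
    rw [← hα, map_mul, map_mul, ← hα, ← hα]
    group)
  have hinj : Function.Injective αh := fun a b e => hψ (by
    have h : ψ (α a) = ψ (α b) := congrArg ψ e
    rw [← hα, ← hα] at h
    exact mul_left_cancel (mul_right_cancel h))
  let P : Sylow p A := Sylow.ofCard U hU
  let Q : Sylow p A := Sylow.ofCard (U.map αh)
    (by rw [Subgroup.card_map_of_injective hinj]; exact hU)
  obtain ⟨c, hc⟩ := MulAction.exists_smul_eq A Q P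
  refine ⟨c, fun v hv => ⟨c * α v * c⁻¹, ?_, ?_⟩⟩
  · have h1 : MulAut.conj c • (α v) ∈ MulAut.conj c • (U.map αh) :=
      Subgroup.smul_mem_pointwise_smul _ _ _ ⟨v, hv, rfl⟩
    have h2 : MulAut.conj c • (U.map αh) = U := by
      have := congrArg (fun S : Sylow p A => (S : Subgroup A)) hc
      exact this
    rw [h2] at h1
    exact h1
  · rw [map_mul, map_mul, map_inv, ← hα]
    group

theorem factorization_card :
    Nat.card ↥((T4).datum.posUnipotent (ZMod 2)) = 2 ^ 24 ∧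
      (Nat.card ↥((T4).datum.group (ZMod 2))).factorization 2 = 24 := by
  refine ⟨?_, ?_⟩
  · rw [card_posUnipotent stOk4.valid stOk4.comm, ZMod.card]
    rfl
  · have h := group_order stOk4.valid stOk4.comm (ZMod.card 2) Data.F4.chkSmith Data.F4.steps_length
      Data.F4.chkSteps Data.F4.Reps.chkPoly_reps
    rw [Finset.prod_eq_one (fun i _ => by simp), one_mul] at h
    rw [h, show (T4).half = 24 from rfl,
      Nat.factorization_mul (by norm_num) (by norm_num), Finsupp.add_apply,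
      Nat.factorization_eq_zero_of_not_dvd (n := List.prod _) (by norm_num),
      Nat.Prime.factorization_pow Nat.prime_two]
    simp

/-- Over two elements the fundamental root elements and their negatives generate the group. -/
theorem group_le_of_simple {T : Tbl} (hT : T.Valid) {H : Subgroup (GL T.I (ZMod 2))}
    (hp : ∀ i < T.rank, ∀ t, T.xU (ZMod 2) (T.simple i) t ∈ H)
    (hm : ∀ i < T.rank, ∀ t, T.xU (ZMod 2) (T.neg (T.simple i)) t ∈ H) : T.datum.group (ZMod 2) ≤ H := by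
  have hn : ∀ i < T.rank, T.nU (ZMod 2) (T.simple i) 1 ∈ H := fun i hi =>
    mul_mem (mul_mem (hp i hi _) (hm i hi _)) (hp i hi _)
  have all : ∀ r < T.n, ∀ t, T.xU (ZMod 2) r t ∈ H := by
    refine root_induction hT _ hp fun i hi s hs ih t => ?_
    have e := nU_simple_xU hT hi hs (F := ZMod 2) t
    have heta : (T.eta i s : ZMod 2) = 1 := by
      rcases eta_sq hT hi hs with h | h <;> rw [h] <;> decide
    rw [heta, one_mul] at e
    rw [eq_mul_inv_of_mul_eq e.symm]
    exact mul_mem (mul_mem (hn i hi) (ih t)) (inv_mem (hn i hi))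
  rw [group_eq hT, Subgroup.closure_le]
  rintro _ ⟨r, hr, t, rfl⟩
  exact all r hr t

variable {K : Type*} [Field K] (h2 : (2 : K) = 0)

/-- The image of the positive unipotent group. -/
noncomputable def posImage : Subgroup (GL (T6).I K) :=
  (((T4).datum.posUnipotent (ZMod 2)).subgroupOf ((T4).datum.group (ZMod 2))).map (emb h2)

include h2

theorem hasCoord_oneProd {i : ℕ} (hi : i < (T6).rank) : ∀ l : List ℕ, (∀ a ∈ l, a < (T6).n ∧ (T6).half ≤ a) →
    (T6).oneProd K l ∈ (T6).rootGen K (fun s => (T6).half ≤ s) ∧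
      (T6).HasCoord i ((T6).oneProd K l) ((l.count ((T6).simple i) : ℕ) : K)
  | [], _ => ⟨one_mem _, by simpa using hasCoord_one (F := K) Data.E6.valid hi⟩
  | a :: l, h => by
    obtain ⟨h1, h3⟩ := hasCoord_oneProd hi l fun b hb => h b (List.mem_cons_of_mem _ hb)
    obtain ⟨ha, hp⟩ := h a List.mem_cons_self
    refine ⟨mul_mem (xU_mem_rootGen ha hp _) h1, ?_⟩
    have := (hasCoord_xU Data.E6.valid hi ha hp (1 : K)).mul Data.E6.valid Data.E6.chkComm hi h3
    rw [oneProd_cons]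
    convert this using 1
    rw [List.count_cons]
    by_cases e : a = (T6).simple i <;> simp [e, add_comm]

theorem posImage_prop {v : GL (T6).I K} (hv : v ∈ posImage h2) :
    v ∈ (T6).rootGen K (fun s => (T6).half ≤ s) ∧
      ∀ i < (T6).rank, ∃ c, (T6).HasCoord i v c ∧ (c = 0 ∨ c = 1) := by
  obtain ⟨⟨z, hz⟩, hzU, rfl⟩ := hv
  have hzU' : z ∈ (T4).rootGen (ZMod 2) (fun r => (T4).half ≤ r) :=
    posUnipotent_rootGen (T := T4) (F := ZMod 2) stOk4.valid ▸ Subgroup.mem_subgroupOf.mp hzU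
  clear hzU
  induction hzU' using Subgroup.closure_induction with
  | mem x hx =>
    obtain ⟨r, hr, hp, t, rfl⟩ := hx
    rw [emb_xU h2 hr, word]
    split_ifs with ht
    · exact ⟨one_mem _, fun i hi => ⟨0, hasCoord_one Data.E6.valid hi, Or.inl rfl⟩⟩
    · have key : allLt (fun r => !(Nat.ble 24 r) || (img r).all fun a => Nat.blt a 72 && Nat.ble 36 a) 48 = true := by
        decide +kernel
      have hk := allLt_iff.mp key r hr
      rw [Nat.ble_eq_true_of_le (show 24 ≤ r from hp)] at hk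
      simp only [Bool.not_true, Bool.false_or, List.all_eq_true, Bool.and_eq_true] at hk
      have hl : ∀ a ∈ img r, a < (T6).n ∧ (T6).half ≤ a := fun a ha =>
        ⟨Nat.le_of_ble_eq_true (hk a ha).1, Nat.le_of_ble_eq_true (hk a ha).2⟩
      refine ⟨(hasCoord_oneProd h2 (i := 0) (by decide) _ hl).1, fun i hi =>
        ⟨_, (hasCoord_oneProd h2 hi _ hl).2, ?_⟩⟩
      rw [← Int.cast_natCast, int_cast_char_two h2]
      split_ifs <;> simp
  | one =>
    rw [show (⟨1, hz⟩ : ↥((T4).datum.group (ZMod 2))) = 1 from rfl, map_one]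
    exact ⟨one_mem _, fun i hi => ⟨0, hasCoord_one Data.E6.valid hi, Or.inl rfl⟩⟩
  | mul x y hx hy ihx ihy =>
    have hle : (T4).rootGen (ZMod 2) (fun r => (T4).half ≤ r) ≤ (T4).datum.group (ZMod 2) :=
      rootGen_le fun _ hr _ t => xU_mem_group stOk4.valid hr t
    obtain ⟨a1, a2⟩ := ihx (hle hx)
    obtain ⟨b1, b2⟩ := ihy (hle hy)
    rw [show (⟨x * y, hz⟩ : ↥((T4).datum.group (ZMod 2))) = ⟨x, hle hx⟩ * ⟨y, hle hy⟩ from rfl, map_mul]
    refine ⟨mul_mem a1 b1, fun i hi => ?_⟩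
    obtain ⟨c, hc, hc'⟩ := a2 i hi
    obtain ⟨d, hd, hd'⟩ := b2 i hi
    refine ⟨c + d, hc.mul Data.E6.valid Data.E6.chkComm hi hd, ?_⟩
    rcases hc' with rfl | rfl <;> rcases hd' with rfl | rfl <;> simp [one_add_one_eq_two, h2]
  | inv x hx ihx =>
    have hle : (T4).rootGen (ZMod 2) (fun r => (T4).half ≤ r) ≤ (T4).datum.group (ZMod 2) :=
      rootGen_le fun _ hr _ t => xU_mem_group stOk4.valid hr t
    obtain ⟨a1, a2⟩ := ihx (hle hx)
    rw [show (⟨x⁻¹, hz⟩ : ↥((T4).datum.group (ZMod 2))) = (⟨x, hle hx⟩)⁻¹ from rfl, map_inv]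
    refine ⟨inv_mem a1, fun i hi => ?_⟩
    obtain ⟨c, hc, hc'⟩ := a2 i hi
    obtain ⟨d, hd⟩ := exists_coord (F := K) Data.E6.valid Data.E6.chkComm hi (inv_mem a1)
    have h0 := hc.mul Data.E6.valid Data.E6.chkComm hi hd
    rw [mul_inv_cancel] at h0
    have e := h0.unique Data.E6.valid Data.E6.chkComm hi (hasCoord_one Data.E6.valid hi)
    refine ⟨d, hd, ?_⟩
    rw [show d = c by linear_combination e - c * h2]
    exact hc'

theorem posImage_witness {i : ℕ} (hi : i < (T6).rank) :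
    ∃ v ∈ posImage (K := K) h2, (T6).HasCoord i v 1 := by
  let r := [33, 24, 27, 25, 27, 33].getD i 0
  have key : ∀ i < 6, [33, 24, 27, 25, 27, 33].getD i 0 < 48 ∧ 24 ≤ [33, 24, 27, 25, 27, 33].getD i 0 ∧
      (∀ a ∈ img ([33, 24, 27, 25, 27, 33].getD i 0), a < 72 ∧ 36 ≤ a) ∧
      (img ([33, 24, 27, 25, 27, 33].getD i 0)).count ((T6).simple i) = 1 := by decide +kernel
  obtain ⟨hr, hp, hl, hc⟩ := key i hi
  have hg := xU_mem_group (F := ZMod 2) stOk4.valid (show r < (T4).n from hr) (1 : ZMod 2)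
  refine ⟨emb h2 ⟨_, hg⟩, Subgroup.mem_map_of_mem _ ?_, ?_⟩
  · rw [Subgroup.mem_subgroupOf, posUnipotent_rootGen stOk4.valid]
    exact xU_mem_rootGen (P := fun s => (T4).half ≤ s) hr hp _
  · rw [emb_xU h2 hr, word, if_neg one_ne_zero]
    have h3 := (hasCoord_oneProd (K := K) h2 hi _ hl).2
    rwa [hc, Nat.cast_one] at h3

omit h2 in
/-- The group ²E₆ of the table. -/
abbrev twisted (K : Type*) [Field K] : Subgroup (GL (T6).I K) :=
  (T6).datum.genSubgroup K (Cfsg.Lie.e6Words K 2)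

omit h2 in
theorem wordMat_eq : ∀ w : List (ℕ × K), (∀ p ∈ w, p.1 < (T6).n) →
    (((w.map fun p => (T6).xU K p.1 p.2).prod : GL (T6).I K) : Matrix (T6).I (T6).I K) =
      (T6).datum.wordMat K w := by
  intro w hw
  show Units.coeHom _ (List.prod _) = (List.map _ w).prod
  rw [map_list_prod, List.map_map]
  exact congrArg List.prod (List.map_congr_left fun p hp => (x_eq_val Data.E6.valid (hw p hp) p.2).symm)

omit h2 in
theorem e6Words_lt {w : List (ℕ × K)} (hw : w ∈ Cfsg.Lie.e6Words K 2) : ∀ p ∈ w, p.1 < (T6).n := by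
  intro p hp
  rcases hw with ⟨t, -, r, hr, rfl⟩ | ⟨t, rs, hrs, rfl⟩
  · simp only [List.mem_singleton] at hp
    subst hp
    simp only [List.mem_cons, List.not_mem_nil, or_false] at hr
    rcases hr with rfl | rfl | rfl | rfl <;> exact Nat.le_of_ble_eq_true rfl
  · simp only [List.mem_cons, List.not_mem_nil, or_false] at hrs hp
    rcases hrs with rfl | rfl | rfl | rfl <;> rcases hp with rfl | rfl <;> exact Nat.le_of_ble_eq_true rfl

omit h2 in
theorem twisted_le_group : twisted K ≤ (T6).datum.group K := by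
  refine (Subgroup.closure_le _).mpr ?_
  rintro g ⟨w, hw, hg⟩
  rw [← wordMat_eq w (e6Words_lt hw)] at hg
  rw [Units.ext hg]
  refine list_prod_mem fun y hy => ?_
  obtain ⟨p, hp, rfl⟩ := List.mem_map.mp hy
  exact xU_mem_group Data.E6.valid (e6Words_lt hw p hp) _

omit h2 in
theorem word_mem_twisted {w : List (ℕ × K)} (hw : w ∈ Cfsg.Lie.e6Words K 2) :
    (w.map fun p => (T6).xU K p.1 p.2).prod ∈ twisted K :=
  Subgroup.subset_closure ⟨w, hw, wordMat_eq w (e6Words_lt hw)⟩

theorem word_mem_base {r : ℕ} (hr : r ∈ [33, 27, 25, 24, 14, 20, 22, 23]) (t : ZMod 2) :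
    word K r t ∈ twisted K := by
  rw [word]
  split_ifs with ht
  · exact one_mem _
  have single : ∀ a ∈ [46, 25, 39, 32], (T6).oneProd K [a] ∈ twisted K := fun a ha =>
    word_mem_twisted (w := [(a, (1 : K))]) (Or.inl ⟨1, one_pow _, a, ha, rfl⟩)
  have pair : ∀ p ∈ [(56, 36), (15, 35), (42, 37), (29, 34)], (T6).oneProd K [p.1, p.2] ∈ twisted K :=
    fun p hp => by
      have := word_mem_twisted (K := K) (w := [(p.1, (1 : K)), (p.2, 1 ^ 2)]) (Or.inr ⟨1, p, hp, rfl⟩)
      rw [one_pow] at this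
      exact this
  have comm : ∀ a b, a < (T6).n → b < (T6).n → (T6).oddTerms b a = [] → a ≠ b → a ≠ (T6).neg b →
      (T6).oneProd K [a, b] = (T6).oneProd K [b, a] := fun a b ha hb hba hab hn => by
    simp only [oneProd_cons, oneProd_nil, mul_one]
    rw [comm_xU Data.E6.valid Data.E6.chkComm hb ha hab hn (1 : K) 1,
      (oddTerms_spec (F := K) Data.E6.valid h2 hb ha).2, hba, oneProd_nil, mul_one]
  simp only [List.mem_cons, List.not_mem_nil, or_false] at hr
  rcases hr with rfl | rfl | rfl | rfl | rfl | rfl | rfl | rfl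
  · rw [show img 33 = [36, 56] from rfl, comm 36 56 (by decide) (by decide) (by decide +kernel) (by decide) (by decide)]
    exact pair (56, 36) (by simp)
  · rw [show img 27 = [37, 42] from rfl, comm 37 42 (by decide) (by decide) (by decide +kernel) (by decide) (by decide)]
    exact pair (42, 37) (by simp)
  · exact single 39 (by simp)
  · exact single 46 (by simp)
  · rw [show img 14 = [15, 35] from rfl]
    exact pair (15, 35) (by simp)
  · rw [show img 20 = [29, 34] from rfl]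
    exact pair (29, 34) (by simp)
  · exact single 32 (by simp)
  · exact single 25 (by simp)

theorem emb_mem_twisted (g : ↥((T4).datum.group (ZMod 2))) : emb h2 g ∈ twisted K := by
  have hv : (T4).Valid := stOk4.valid
  let H : Subgroup (GL (T4).I (ZMod 2)) := ((twisted K).comap (emb h2)).map ((T4).datum.group (ZMod 2)).subtype
  have base : ∀ r ∈ [33, 27, 25, 24, 14, 20, 22, 23], ∀ t, (T4).xU (ZMod 2) r t ∈ H := fun r hr t => by
    have h48 : r < 48 := by revert r; decide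
    refine ⟨⟨_, xU_mem_group hv h48 t⟩, ?_, rfl⟩
    show emb h2 _ ∈ twisted K
    rw [emb_xU h2 h48]
    exact word_mem_base h2 hr t
  have hsimple : ∀ i < 4, (T4).simple i ∈ [33, 27, 25, 24, 14, 20, 22, 23] ∧
      (T4).neg ((T4).simple i) ∈ [33, 27, 25, 24, 14, 20, 22, 23] := by decide +kernel
  have hle : (T4).datum.group (ZMod 2) ≤ H :=
    group_le_of_simple hv (fun i hi t => base _ (hsimple i hi).1 t) fun i hi t => base _ (hsimple i hi).2 t
  obtain ⟨g', hg', e⟩ := hle g.2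
  rw [show g = g' from Subtype.ext e.symm]
  exact hg'

omit h2 in
theorem conj_twisted {χ : ℕ → Kˣ} (hχ : (T6).IsChar χ) (e2' : χ 46 = 1) (e4 : χ 39 = 1)
    (e6 : χ 36 = χ 56 ^ 2) (e5 : χ 37 = χ 42 ^ 2) {g : GL (T6).I K} (hg : g ∈ twisted K) :
    (T6).dU χ * g * ((T6).dU χ)⁻¹ ∈ twisted K := by
  suffices twisted K ≤ (twisted K).comap (MulAut.conj ((T6).dU χ : GL (T6).I K)).toMonoidHom from this hg
  refine (Subgroup.closure_le _).mpr ?_
  rintro g ⟨w, hw, hgw⟩
  rw [← wordMat_eq w (e6Words_lt hw)] at hgw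
  rw [Units.ext hgw]
  show MulAut.conj ((T6).dU χ : GL (T6).I K) (List.prod _) ∈ twisted K
  rw [map_list_prod, List.map_map]
  have hc : ∀ r < (T6).n, ∀ t, MulAut.conj ((T6).dU χ : GL (T6).I K) ((T6).xU K r t) =
      (T6).xU K r ((χ r : K) * t) := fun r hr t => by
    rw [MulAut.conj_apply, dU_conj_X Data.E6.valid hχ hr, mul_inv_cancel_right]
  have hneg : ∀ r < (T6).n, ∀ s, (T6).neg r = s → χ s = (χ r)⁻¹ := fun r hr s e => e ▸ hχ.neg r hr
  rcases hw with ⟨t, ht, r, hr, rfl⟩ | ⟨t, rs, hrs, rfl⟩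
  · have h1 : χ r = 1 ∧ r < (T6).n := by
      simp only [List.mem_cons, List.not_mem_nil, or_false] at hr
      rcases hr with rfl | rfl | rfl | rfl
      · exact ⟨e2', by decide⟩
      · exact ⟨by rw [hneg 46 (by decide) _ (show (T6).neg 46 = Cfsg.Lie.e6m2 by decide), e2', inv_one], by decide⟩
      · exact ⟨e4, by decide⟩
      · exact ⟨by rw [hneg 39 (by decide) _ (show (T6).neg 39 = Cfsg.Lie.e6m4 by decide), e4, inv_one], by decide⟩
    simp only [List.map_cons, List.map_nil, Function.comp_apply, hc r h1.2, h1.1, Units.val_one, one_mul]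
    exact word_mem_twisted (Or.inl ⟨t, ht, r, hr, rfl⟩)
  · have h1 : χ rs.2 = χ rs.1 ^ 2 ∧ rs.1 < (T6).n ∧ rs.2 < (T6).n := by
      simp only [List.mem_cons, List.not_mem_nil, or_false] at hrs
      rcases hrs with rfl | rfl | rfl | rfl
      · exact ⟨e6, by decide, by decide⟩
      · refine ⟨?_, by decide, by decide⟩
        rw [hneg 56 (by decide) _ (show (T6).neg 56 = Cfsg.Lie.e6m1 by decide),
          hneg 36 (by decide) _ (show (T6).neg 36 = Cfsg.Lie.e6m6 by decide), e6, inv_pow]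
      · exact ⟨e5, by decide, by decide⟩
      · refine ⟨?_, by decide, by decide⟩
        rw [hneg 42 (by decide) _ (show (T6).neg 42 = Cfsg.Lie.e6m3 by decide),
          hneg 37 (by decide) _ (show (T6).neg 37 = Cfsg.Lie.e6m5 by decide), e5, inv_pow]
    simp only [List.map_cons, List.map_nil, Function.comp_apply, hc _ h1.2.1, hc _ h1.2.2]
    rw [h1.1, Units.val_pow_eq_pow_val, ← mul_pow]
    exact word_mem_twisted (Or.inr ⟨(χ rs.1 : K) * t, rs, hrs, rfl⟩)

omit h2 in
theorem inv_diag (h3 : ∀ a : Kˣ, a ^ 3 = 1) {χ : ℕ → Kˣ}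
    (hd : (T6).dU χ ∈ (T6).datum.diagonalSubgroup K) :
    χ 56 * χ 42 ^ 2 * χ 37 * χ 36 ^ 2 = 1 := by
  obtain ⟨f, hf⟩ := (mem_diag_iff Data.E6.valid).mp hd
  have v : ∀ s < (T6).n, χ s = ∏ i, f i ^ (T6).ca i s := fun s hs => dU_apply_inj hf hs
  rw [v 56 (by decide), v 42 (by decide), v 37 (by decide), v 36 (by decide), ← Finset.prod_pow,
    ← Finset.prod_pow, ← Finset.prod_mul_distrib, ← Finset.prod_mul_distrib, ← Finset.prod_mul_distrib]
  refine Finset.prod_eq_one fun i _ => ?_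
  rw [← zpow_natCast (f i ^ (T6).ca i 42) 2, ← zpow_natCast (f i ^ (T6).ca i 36) 2, ← zpow_mul, ← zpow_mul,
    ← zpow_add, ← zpow_add, ← zpow_add]
  have key : ∀ i : Fin (T6).rank, ((T6).ca i 56 + (T6).ca i 42 * (2 : ℕ) + (T6).ca i 37 +
      (T6).ca i 36 * (2 : ℕ)) % 3 = 0 := by decide +kernel
  obtain ⟨m, hm⟩ := Int.dvd_of_emod_eq_zero (key i)
  rw [hm, zpow_mul]
  show (f i ^ ((3 : ℕ) : ℤ)) ^ m = 1
  rw [zpow_natCast, h3, one_zpow]

omit h2 in
/-- The outer diagonal characters. -/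
def outChar (u : Kˣ) : ℕ → Kˣ := (T6).chOf fun j => [u, 1, 1, 1, 1, u ^ 2].getD j 1

omit h2 in
theorem outChar_vals (u : Kˣ) : (T6).IsChar (outChar u) ∧ outChar u 56 = u ∧ outChar u 46 = 1 ∧
    outChar u 42 = 1 ∧ outChar u 39 = 1 ∧ outChar u 37 = 1 ∧ outChar u 36 = u ^ 2 := by
  have hs : ∀ i < 6, ∀ s, (T6).simple i = s → outChar u s = [u, 1, 1, 1, 1, u ^ 2].getD i 1 :=
    fun i hi s e => e ▸ chOf_simple Data.E6.valid (F := K) _ (show i < (T6).rank from hi)
  exact ⟨isChar_chOf Data.E6.valid _, hs 0 (by norm_num) 56 (by decide +kernel),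
    hs 1 (by norm_num) 46 (by decide +kernel), hs 2 (by norm_num) 42 (by decide +kernel),
    hs 3 (by norm_num) 39 (by decide +kernel), hs 4 (by norm_num) 37 (by decide +kernel),
    hs 5 (by norm_num) 36 (by decide +kernel)⟩

omit h2 in
theorem outChar_mul (u v : Kˣ) : outChar u * outChar v = outChar (u * v) := by
  funext s
  simp only [outChar, chOf, Pi.mul_apply]
  rw [← Finset.prod_mul_distrib]
  refine Finset.prod_congr rfl fun (i : Fin 6) _ => ?_
  fin_cases i <;> simp [mul_zpow, mul_pow]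

omit h2 in
theorem outChar_one : outChar (1 : Kˣ) = 1 := by
  funext s
  simp only [outChar, chOf, Pi.one_apply]
  refine Finset.prod_eq_one fun (i : Fin 6) _ => ?_
  fin_cases i <;> simp

omit h2 in
theorem conj_outer (u : Kˣ) {g : GL (T6).I K} (hg : g ∈ twisted K) :
    (T6).dU (outChar u) * g * ((T6).dU (outChar u))⁻¹ ∈ twisted K := by
  obtain ⟨hc, h56, h46, h42, h39, h37, h36⟩ := outChar_vals u
  exact conj_twisted hc h46 h39 (by rw [h56, h36]) (by rw [h42, h37, one_pow]) hg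

theorem no_fusion (h3 : ∀ a : Kˣ, a ^ 3 = 1) {g : GL (T6).I K} (hg : g ∈ (T6).datum.group K) {u : Kˣ}
    (hkeep : ∀ a, ∃ b, g * (T6).dU (outChar u) * emb h2 a * (g * (T6).dU (outChar u))⁻¹ = emb h2 b) :
    u = 1 := by
  obtain ⟨hcard, hfac⟩ := factorization_card
  have hUc : Nat.card ↥(((T4).datum.posUnipotent (ZMod 2)).subgroupOf ((T4).datum.group (ZMod 2))) =
      2 ^ (Nat.card ↥((T4).datum.group (ZMod 2))).factorization 2 := by
    rw [hfac, ← hcard]
    refine Nat.card_congr (Subgroup.subgroupOfEquivOfLe ?_).toEquiv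
    exact le_trans (le_sup_left : _ ≤ (T4).datum.borelSubgroup (ZMod 2)) (borel_le_group stOk4.valid)
  obtain ⟨c, hc⟩ := exists_fix (p := 2) (emb (K := K) h2) (emb_injective h2) _ hUc hkeep
  have hd : (T6).dU (outChar u) ∈ (T6).datum.diagonalSubgroup K := by
    refine diag_of_keep Data.E6.valid Data.E6.chkComm (U := posImage h2) (fun v hv => (posImage_prop h2 hv).1)
      (fun i hi v hv c hcd => ?_) (fun i hi => posImage_witness h2 hi)
      (mul_mem (twisted_le_group (emb_mem_twisted h2 c)) hg) (outChar_vals u).1 ?_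
    · obtain ⟨d, hd, hd'⟩ := (posImage_prop h2 hv).2 i hi
      rw [hcd.unique Data.E6.valid Data.E6.chkComm hi hd]
      exact hd'
    · rintro _ ⟨v, hv, rfl⟩
      obtain ⟨w, hw, e⟩ := hc v hv
      rw [← mul_assoc] at e
      rw [e]
      exact Subgroup.mem_map_of_mem _ hw
  have hi := inv_diag h3 hd
  obtain ⟨-, h56, -, h42, -, h37, h36⟩ := outChar_vals u
  rw [h56, h42, h37, h36, one_pow, mul_one, mul_one, ← pow_mul, ← pow_succ', pow_succ, pow_succ,
    h3, one_mul] at hi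
  have h6 : u ^ 2 = 1 := by rw [pow_two]; exact hi
  have := h3 u
  rwa [pow_succ, h6, one_mul] at this

theorem exists_three [Finite K] (hK : Nat.card K = 4) :
    ∃ H : Fin 3 → Subgroup ↥(twisted K),
      (∀ i, Nonempty ((H i) ≃* ↥((T4).datum.group (ZMod 2)))) ∧
      (∀ i j, i ≠ j → ∀ g : ↥(twisted K), (H i).map (MulAut.conj g).toMonoidHom ≠ H j) := by
  have hcu : Nat.card Kˣ = 3 := by rw [Nat.card_units, hK]
  have h3 : ∀ a : Kˣ, a ^ 3 = 1 := fun a => hcu ▸ pow_card_eq_one'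
  obtain ⟨w, hw⟩ : ∃ w : Fin 3 → Kˣ, Function.Injective w :=
    ⟨(Finite.equivFinOfCardEq hcu).symm, Equiv.injective _⟩
  let f : Fin 3 → (↥((T4).datum.group (ZMod 2)) →* ↥(twisted K)) := fun i =>
    ((MulAut.conj ((T6).dU (outChar (w i)) : GL (T6).I K)).toMonoidHom.comp (emb h2)).codRestrict (twisted K)
      fun a => conj_outer (w i) (emb_mem_twisted h2 a)
  have hf : ∀ i, Function.Injective (f i) := fun i a b e =>
    emb_injective h2 ((MulAut.conj _).injective (congrArg Subtype.val e))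
  refine ⟨fun i => (f i).range, fun i => ⟨(MonoidHom.ofInjective (hf i)).symm⟩, fun i j hij g he => ?_⟩
  refine hij (hw (mul_inv_eq_one.mp (no_fusion h2 h3 (u := w i * (w j)⁻¹)
    (g := ((T6).dU (outChar (w j)⁻¹) : GL (T6).I K) * g.1 * ((T6).dU (outChar (w j)⁻¹))⁻¹)
    (twisted_le_group (conj_outer (w j)⁻¹ g.2)) fun a => ?_)))
  have h1 : MulAut.conj g (f i a) ∈ (f j).range :=
    (SetLike.ext_iff.mp he _).mp (Subgroup.mem_map_of_mem (MulAut.conj g).toMonoidHom ⟨a, rfl⟩)
  obtain ⟨b, hb⟩ := h1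
  refine ⟨b, ?_⟩
  have hb' : ((T6).dU (outChar (w j)) : GL (T6).I K) * emb h2 b * ((T6).dU (outChar (w j)))⁻¹ =
      g.1 * ((T6).dU (outChar (w i)) * emb h2 a * ((T6).dU (outChar (w i)))⁻¹) * g.1⁻¹ :=
    congrArg Subtype.val hb
  have hone : ((T6).dU (outChar (w j)⁻¹) : GL (T6).I K) * (T6).dU (outChar (w j)) = 1 := by
    rw [dU_mul, outChar_mul, inv_mul_cancel, outChar_one, dU_one]
  rw [← inv_eq_of_mul_eq_one_right hone] at hb'
  rw [mul_comm (w i) (w j)⁻¹, ← outChar_mul, ← dU_mul]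
  generalize ((T6).dU (outChar (w j)⁻¹) : GL (T6).I K) = d at hb' ⊢
  generalize ((T6).dU (outChar (w i)) : GL (T6).I K) = e at hb' ⊢
  calc d * g.1 * d⁻¹ * (d * e) * emb h2 a * (d * g.1 * d⁻¹ * (d * e))⁻¹
      = d * (g.1 * (e * emb h2 a * e⁻¹) * g.1⁻¹) * d⁻¹ := by group
    _ = d * (d⁻¹ * emb h2 b * d⁻¹⁻¹) * d⁻¹ := by rw [hb']
    _ = emb h2 b := by group

end CfsgLib.Chevalley.F4InE6
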